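import Cfsg.Agent.Lib.SzRecog.Named
import Cfsg.Agent.Lib.AbelCent.SL
import Cfsg.Agent.Lib.BrauerSuzuki.ZStar
import Cfsg.Agent.Lib.Solvable.Frobenius
import Cfsg.Agent.Lib.Transfer.Basic
import Mathlib.GroupTheory.Transfer

/-!
# Groups whose maximal solvable subgroups are Frobenius groups with TI kernels, or abelian

Such a group is solvable, `SL(2, 2^n)` or a Suzuki group: the kernel containing a Sylow `2`-subgroup
is a good subgroup, and counting cosets shows that the group is generated by its involutions and simple.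
-/

set_option autoImplicit false
set_option linter.style.haveILetI false
set_option linter.unusedSectionVars false

namespace Cfsg.Agent.SolvTI

open scoped Pointwise
open Cfsg.Agent.Invol Cfsg.Agent.CNSimple MulAction

universe u

variable {G : Type u} [Group G] [Finite G]

/-- A maximal solvable subgroup. -/
def IsMS (M : Subgroup G) : Prop :=
  Group.IsSolvable M ∧ ∀ M' : Subgroup G, M < M' → ¬ Group.IsSolvable M'

/-- The hypothesis on the assignment. -/
def Sys (F : Subgroup G → Subgroup G) : Prop :=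
  ∀ M : Subgroup G, IsMS M →
    F M ≤ M ∧ M ≤ Subgroup.normalizer (F M : Set G) ∧
    (∀ a ∈ M, a ∉ F M → ∀ x ∈ F M, x * a = a * x → x = 1) ∧
    (∀ g : G, g ∉ M → F M ⊓ (MulAut.conj g • F M) = ⊥) ∧
    (F M ≠ ⊥ ∨ IsMulCommutative M)

theorem exists_ms {A : Subgroup G} (hA : Group.IsSolvable A) : ∃ M, IsMS M ∧ A ≤ M := by
  obtain ⟨M, hAM, hM⟩ := Finite.exists_le_maximal (p := fun H : Subgroup G => Group.IsSolvable H) hA
  exact ⟨M, ⟨hM.1, fun M' hlt hs => hlt.not_ge (hM.2 hs hlt.le)⟩, hAM⟩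

theorem solvable_zpowers (g : G) : Group.IsSolvable (Subgroup.zpowers g) :=
  Group.isSolvable_of_comm fun a b => mul_comm' a b

/-- The Hall property follows from the centraliser property. -/
theorem good_of {H : Type*} [Group H] [Finite H] {K : Subgroup H} (hnil : Group.IsNilpotent K) (hne : K ≠ ⊥)
    (hcent : ∀ k ∈ K, k ≠ 1 → Subgroup.centralizer ({k} : Set H) ≤ K) : CN.Good K := by
  refine ⟨hnil, hne, ?_, hcent⟩
  intro t ht htd _
  obtain ⟨x, hx⟩ := exists_prime_orderOf_dvd_card' (G := K) t htd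
  have hx' : orderOf (x : H) = t := by rw [Subgroup.orderOf_coe, hx]
  have hx1 : (x : H) ≠ 1 := fun e => ht.ne_one (by rw [← hx', e, orderOf_one])
  obtain ⟨Q, hQ⟩ := (IsPGroup.of_card (n := 1) (by rw [Nat.card_zpowers, hx', pow_one]) :
    IsPGroup t (Subgroup.zpowers (x : H))).exists_le_sylow
  have hxQ : (x : H) ∈ (Q : Subgroup H) := hQ (Subgroup.mem_zpowers _)
  haveI : Nontrivial (Q : Subgroup H) := ⟨⟨⟨_, hxQ⟩, 1, fun e => hx1 (congrArg Subtype.val e)⟩⟩
  haveI := Q.2.center_nontrivial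
  obtain ⟨z, hz⟩ := exists_ne (1 : Subgroup.center (Q : Subgroup H))
  have hz1 : ((z : (Q : Subgroup H)) : H) ≠ 1 := fun e => hz (Subtype.ext (Subtype.ext e))
  have hcom : ∀ a ∈ (Q : Subgroup H), a * ((z : (Q : Subgroup H)) : H) = ((z : (Q : Subgroup H)) : H) * a :=
    fun a ha => congrArg Subtype.val (Subgroup.mem_center_iff.mp z.2 ⟨a, ha⟩)
  have hzK := hcent _ x.2 hx1 (Subgroup.mem_centralizer_singleton_iff.2 (hcom _ hxQ).symm)
  exact ⟨Q, fun a ha => hcent _ hzK hz1 (Subgroup.mem_centralizer_singleton_iff.2 (hcom a ha))⟩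

variable {F : Subgroup G → Subgroup G} (hF : Sys F)
include hF

theorem cent_le {M : Subgroup G} (hM : IsMS M) {x : G} (hx : x ∈ F M) (hx1 : x ≠ 1) : Ct x ≤ F M := by
  obtain ⟨hle, -, hfree, hti, -⟩ := hF M hM
  intro g hg
  rw [mem_Ct] at hg
  by_contra hgF
  by_cases hgM : g ∈ M
  · exact hx1 (hfree g hgM hgF x hx hg.symm)
  · refine hx1 (Subgroup.mem_bot.1 (hti g hgM ▸ Subgroup.mem_inf.2 ⟨hx, ?_⟩))
    rw [Subgroup.mem_pointwise_smul_iff_inv_smul_mem, ← map_inv, MulAut.smul_def, MulAut.conj_apply,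
      inv_inv, mul_assoc, ← hg, inv_mul_cancel_left]
    exact hx

/-- A Sylow subgroup meeting `F M` lies in it. -/
theorem sylow_le {M : Subgroup G} (hM : IsMS M) {p : ℕ} [Fact p.Prime] (P : Sylow p G) {w : G}
    (hwP : w ∈ (P : Subgroup G)) (hwF : w ∈ F M) (hw1 : w ≠ 1) : (P : Subgroup G) ≤ F M := by
  haveI : Nontrivial (P : Subgroup G) := ⟨⟨⟨w, hwP⟩, 1, fun e => hw1 (congrArg Subtype.val e)⟩⟩
  haveI := P.2.center_nontrivial
  obtain ⟨z, hz⟩ := exists_ne (1 : Subgroup.center (P : Subgroup G))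
  have hz1 : ((z : (P : Subgroup G)) : G) ≠ 1 := fun e => hz (Subtype.ext (Subtype.ext e))
  have hcom : ∀ a ∈ (P : Subgroup G), a * ((z : (P : Subgroup G)) : G) = ((z : (P : Subgroup G)) : G) * a :=
    fun a ha => congrArg Subtype.val (Subgroup.mem_center_iff.mp z.2 ⟨a, ha⟩)
  have hzF := cent_le hF hM hwF hw1 (mem_Ct.2 (hcom w hwP).symm)
  exact fun a ha => cent_le hF hM hzF hz1 (mem_Ct.2 (hcom a ha))

variable (hns : ¬ Group.IsSolvable G)
include hns

theorem ms_ne_top {M : Subgroup G} (hM : IsMS M) : M ≠ ⊤ := by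
  rintro rfl
  haveI := hM.1
  exact hns (Group.isSolvable_of_surjective (f := (⊤ : Subgroup G).subtype) fun g => ⟨⟨g, trivial⟩, rfl⟩)

theorem ms_ne_bot {M : Subgroup G} (hM : IsMS M) : M ≠ ⊥ := by
  rintro rfl
  haveI : Nontrivial G := by
    by_contra h
    rw [not_nontrivial_iff_subsingleton] at h
    exact hns (Group.isSolvable_of_comm fun a b => Subsingleton.elim _ _)
  obtain ⟨g, hg⟩ := exists_ne (1 : G)
  exact hM.2 _ (bot_lt_iff_ne_bot.2 (Subgroup.zpowers_ne_bot.2 hg)) (solvable_zpowers g)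

/-- `F M` is a proper subgroup of `M`. -/
theorem f_ne {M : Subgroup G} (hM : IsMS M) : F M ≠ M := by
  intro e
  obtain ⟨-, -, -, hti, -⟩ := hF M hM
  have hfc : Cfsg.IsFrobeniusComplement M :=
    ⟨ms_ne_bot hF hns hM, ms_ne_top hF hns hM, fun g hg => by
      have := hti g hg
      rwa [e] at this⟩
  obtain ⟨N, -, hNn, -, hc, -, -, -, hnil⟩ := FrobeniusStruct.exists_kernel hfc
  haveI := hM.1
  haveI := hNn
  have hsurj : Function.Surjective ((QuotientGroup.mk' N).comp M.subtype) := by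
    intro q
    obtain ⟨g, rfl⟩ := QuotientGroup.mk'_surjective N q
    obtain ⟨⟨n, m⟩, hnm⟩ := hc.2 g
    refine ⟨m, (QuotientGroup.eq).2 ?_⟩
    have hnm' : (n : G) * (m : G) = g := hnm
    show (m : G)⁻¹ * g ∈ N
    rw [← hnm']
    simpa [mul_assoc] using hNn.conj_mem _ n.2 (m : G)⁻¹
  haveI : Group.IsSolvable (G ⧸ N) := Group.isSolvable_of_surjective hsurj
  exact hns ((Group.isSolvable_iff_subgroup_quotient N).2 ⟨inferInstance, inferInstance⟩)

/-- `F M` is nilpotent. -/
theorem f_nilpotent {M : Subgroup G} (hM : IsMS M) : Group.IsNilpotent (F M) := by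
  obtain ⟨hle, hnorm, hfree, -, -⟩ := hF M hM
  set K := (F M).subgroupOf M with hK
  haveI : K.Normal := Subgroup.normal_subgroupOf_of_le_normalizer hnorm
  obtain ⟨p, hp, hdvd⟩ := Nat.exists_prime_and_dvd (n := Nat.card (M ⧸ K)) (fun e => f_ne hF hns hM (by
    rw [← Subgroup.index_eq_card, Subgroup.index_eq_one, Subgroup.subgroupOf_eq_top] at e
    exact le_antisymm hle e))
  haveI := Fact.mk hp
  obtain ⟨q, hq⟩ := exists_prime_orderOf_dvd_card' (G := M ⧸ K) p hdvd
  obtain ⟨a, rfl⟩ := QuotientGroup.mk_surjective q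
  have haK : a ∉ K := fun h => hp.ne_one (by
    rw [← hq, (QuotientGroup.eq_one_iff a).2 h, orderOf_one])
  have hapK : a ^ p ∈ K := by
    rw [← QuotientGroup.eq_one_iff, QuotientGroup.mk_pow, ← hq]
    exact pow_orderOf_eq_one _
  have hap : a ^ p = 1 := by
    refine Subtype.ext (hfree a a.2 haK _ (by simpa [hK, Subgroup.mem_subgroupOf] using hapK) ?_)
    rw [Subgroup.coe_pow]
    exact ((Commute.refl (a : G)).pow_left p).eq
  haveI := FixedPointFreeThompson.isNilpotent_of_conj K hp a hap fun x hx hxa => Subtype.ext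
    (hfree a a.2 haK x hx (congrArg Subtype.val hxa).symm)
  exact Group.nilpotent_of_surjective (Subgroup.subgroupOfEquivOfLe hle).toMonoidHom
    (Subgroup.subgroupOfEquivOfLe hle).surjective

theorem radical {R : Subgroup G} (hR : R.Normal) (hRs : Group.IsSolvable R) : R = ⊥ := by
  haveI := hR
  haveI := hRs
  by_contra hR1
  have hle : ∀ M, IsMS M → R ≤ M := by
    intro M hM
    by_contra h
    refine hM.2 (M ⊔ R) (lt_of_le_of_ne le_sup_left fun e => h (e ▸ le_sup_right)) ?_
    haveI := hM.1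
    haveI : (R.subgroupOf (M ⊔ R)).Normal := inferInstance
    haveI : Group.IsSolvable (R.subgroupOf (M ⊔ R)) :=
      Group.isSolvable_of_isSolvable_injective (f := (Subgroup.subgroupOfEquivOfLe (le_sup_right : R ≤ M ⊔ R)).toMonoidHom)
        (Subgroup.subgroupOfEquivOfLe _).injective
    haveI : Group.IsSolvable (↥(M ⊔ R) ⧸ R.subgroupOf (M ⊔ R)) := by
      refine Group.isSolvable_of_surjective
        (f := (QuotientGroup.mk' (R.subgroupOf (M ⊔ R))).comp (Subgroup.inclusion (le_sup_left : M ≤ M ⊔ R))) ?_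
      intro q
      obtain ⟨⟨x, hx⟩, rfl⟩ := QuotientGroup.mk'_surjective _ q
      obtain ⟨m, hm, r, hr, rfl⟩ := Subgroup.mem_sup_of_normal_right.1 hx
      refine ⟨⟨m, hm⟩, (QuotientGroup.eq).2 ?_⟩
      show m⁻¹ * (m * r) ∈ R
      rwa [inv_mul_cancel_left]
    exact (Group.isSolvable_iff_subgroup_quotient (R.subgroupOf (M ⊔ R))).2 ⟨inferInstance, inferInstance⟩
  have hF0 : ∀ M, IsMS M → F M = ⊥ := by
    intro M hM
    by_contra hF1
    obtain ⟨hFle, hnorm, -, hti, -⟩ := hF M hM
    have hinf : ∀ x ∈ F M, x ∈ R → x = 1 := by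
      intro x hx hxR
      by_contra hx1
      obtain ⟨g, hg⟩ : ∃ g, g ∉ M := by
        by_contra h
        push Not at h
        exact ms_ne_top hF hns hM ((Subgroup.eq_top_iff' _).2 h)
      set y := g * x * g⁻¹ with hy
      have hyR : y ∈ R := hR.conj_mem x hxR g
      have hy1 : y ≠ 1 := fun e => hx1 (conj_eq_one_iff.1 e)
      have hyg : y ∈ MulAut.conj g • F M := ⟨x, hx, by simp [hy]⟩
      set d := x * y * x⁻¹ * y⁻¹ with hd
      have hdF : d ∈ F M := by
        have : y * x⁻¹ * y⁻¹ ∈ F M :=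
          (Subgroup.mem_normalizer_iff.1 (hnorm (hle M hM hyR)) _).1 (inv_mem hx)
        rw [show d = x * (y * x⁻¹ * y⁻¹) by rw [hd]; group]
        exact mul_mem hx this
      have hdg : d ∈ MulAut.conj g • F M := by
        have hxn : g⁻¹ * x * g ∈ M := hle M hM (by simpa using hR.conj_mem x hxR g⁻¹)
        have h0 : g⁻¹ * x * g * x * (g⁻¹ * x * g)⁻¹ ∈ F M :=
          (Subgroup.mem_normalizer_iff.1 (hnorm hxn) _).1 hx
        exact ⟨g⁻¹ * x * g * x * (g⁻¹ * x * g)⁻¹ * x⁻¹, mul_mem h0 (inv_mem hx), by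
          simp only [MulDistribMulAction.toMonoidEnd_apply, MulDistribMulAction.toMonoidHom_apply,
            MulAut.smul_def, MulAut.conj_apply]
          rw [hd, hy]; group⟩
      have hd1 : d = 1 := Subgroup.mem_bot.1 (hti g hg ▸ Subgroup.mem_inf.2 ⟨hdF, hdg⟩)
      refine hy1 (Subgroup.mem_bot.1 (hti g hg ▸ Subgroup.mem_inf.2 ⟨cent_le hF hM hx hx1 (mem_Ct.2 ?_), hyg⟩))
      rw [hd] at hd1
      exact (mul_inv_eq_iff_eq_mul.1 (mul_inv_eq_one.1 hd1)).symm
    obtain ⟨⟨x, hx⟩, hx1⟩ := Subgroup.ne_bot_iff_exists_ne_one.1 hF1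
    obtain ⟨⟨r, hr⟩, hr1⟩ := Subgroup.ne_bot_iff_exists_ne_one.1 hR1
    have hx1' : x ≠ 1 := fun e => hx1 (Subtype.ext e)
    refine hr1 (Subtype.ext (hinf r (cent_le hF hM hx hx1' (mem_Ct.2 ?_)) hr))
    have hc : r * x * r⁻¹ * x⁻¹ = 1 := by
      refine hinf _ (mul_mem ((Subgroup.mem_normalizer_iff.1 (hnorm (hle M hM hr)) x).1 hx) (inv_mem hx)) ?_
      have h0 : x * r⁻¹ * x⁻¹ ∈ R := hR.conj_mem _ (inv_mem hr) x
      rw [show r * x * r⁻¹ * x⁻¹ = r * (x * r⁻¹ * x⁻¹) by group]
      exact mul_mem hr h0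
    exact mul_inv_eq_iff_eq_mul.1 (mul_inv_eq_one.1 hc)
  have hab : ∀ A : Subgroup G, Group.IsSolvable A → ∀ a ∈ A, ∀ b ∈ A, a * b = b * a := by
    intro A hA a ha b hb
    obtain ⟨M, hM, hAM⟩ := exists_ms hA
    haveI := (hF M hM).2.2.2.2.resolve_left (fun h => h (hF0 M hM))
    exact congrArg Subtype.val (mul_comm' (⟨a, hAM ha⟩ : M) ⟨b, hAM hb⟩)
  haveI : Fact (Nat.Prime 2) := ⟨Nat.prime_two⟩
  obtain ⟨P⟩ : Nonempty (Sylow 2 G) := inferInstance
  have hN : Group.IsSolvable (Subgroup.normalizer ((P : Subgroup G) : Set G)) := by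
    haveI : Group.IsNilpotent (P : Subgroup G) := P.2.isNilpotent
    set N := Subgroup.normalizer ((P : Subgroup G) : Set G)
    haveI : ((P : Subgroup G).subgroupOf N).Normal := Subgroup.normal_in_normalizer
    haveI : Group.IsSolvable ((P : Subgroup G).subgroupOf N) :=
      Group.isSolvable_of_isSolvable_injective (f := (Subgroup.subgroupOfEquivOfLe
        (Subgroup.le_normalizer : (P : Subgroup G) ≤ N)).toMonoidHom) (Subgroup.subgroupOfEquivOfLe _).injective
    refine (Group.isSolvable_iff_subgroup_quotient ((P : Subgroup G).subgroupOf N)).2 ⟨inferInstance, ?_⟩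
    refine OddChar.oddSolvable _ ?_
    rw [← Subgroup.index_eq_card, Nat.odd_iff, ← Nat.two_dvd_ne_zero]
    exact fun h => P.not_dvd_index (h.trans (Subgroup.relIndex_dvd_index_of_le Subgroup.le_normalizer))
  have hPC : Subgroup.normalizer ((P : Subgroup G) : Set G) ≤ Subgroup.centralizer ((P : Subgroup G) : Set G) :=
    fun g hg => Subgroup.mem_centralizer_iff.2 fun p hp => hab _ hN p (Subgroup.le_normalizer hp) g hg
  set T := (MonoidHom.transferSylow P hPC).ker
  have hc := MonoidHom.ker_transferSylow_isComplement' P hPC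
  have hTodd : Odd (Nat.card T) := by
    rw [← hc.index_eq_card, Nat.odd_iff, ← Nat.two_dvd_ne_zero]
    exact P.not_dvd_index
  haveI : Group.IsSolvable T := OddChar.oddSolvable T hTodd
  haveI : Group.IsNilpotent (P : Subgroup G) := P.2.isNilpotent
  haveI : Group.IsSolvable (G ⧸ T) := Group.isSolvable_of_surjective
    (f := (Subgroup.IsComplement'.QuotientMulEquiv hc.symm).symm.toMonoidHom)
    (Subgroup.IsComplement'.QuotientMulEquiv hc.symm).symm.surjective
  exact hns ((Group.isSolvable_iff_subgroup_quotient T).2 ⟨inferInstance, inferInstance⟩)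

/-- A kernel containing the involutions of a Sylow subgroup. -/
theorem exists_tiHyp : ∃ K : Subgroup G, TIHyp K := by
  haveI : Fact (Nat.Prime 2) := ⟨Nat.prime_two⟩
  have hev : Even (Nat.card G) := Nat.not_odd_iff_even.1 fun h => hns (OddChar.oddSolvable G h)
  obtain ⟨P⟩ : Nonempty (Sylow 2 G) := inferInstance
  obtain ⟨M, hM, hPM⟩ : ∃ M, IsMS M ∧ ∃ w, w ∈ (P : Subgroup G) ∧ w ∈ F M ∧ w ≠ 1 := by
    by_contra hno
    push Not at hno
    haveI : Group.IsNilpotent (P : Subgroup G) := P.2.isNilpotent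
    by_cases hq : ∃ M, IsMS M ∧ (P : Subgroup G) ≤ M ∧ F M ≠ ⊥
    · obtain ⟨M, hM, hPM, hF1⟩ := hq
      obtain ⟨hle, hnorm, hfree, -, -⟩ := hF M hM
      have hinv : ∀ s ∈ (P : Subgroup G), orderOf s = 2 → ∀ x ∈ F M, s * x * s = x⁻¹ := by
        intro s hsP hs
        have hmem : ∀ x ∈ F M, s * x * s ∈ F M := fun x hx => by
          have := (Subgroup.mem_normalizer_iff.1 (hnorm (hPM hsP)) x).1 hx
          rwa [inv_self hs] at this
        let φ : F M →* F M :=
          { toFun := fun x => ⟨s * x * s, hmem x x.2⟩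
            map_one' := Subtype.ext (by simp [mul_self hs])
            map_mul' := fun x y => Subtype.ext (by
              simp only [Subgroup.coe_mul]
              rw [show s * (x : G) * s * (s * (y : G) * s) = s * (x : G) * (s * s) * (y : G) * s by group,
                mul_self hs]; group) }
        have hfp : MonoidHom.FixedPointFree φ := fun x hx => Subtype.ext (by
          refine hfree s (hPM hsP) (fun h => ne_one hs (hno M hM s hsP h)) x x.2 ?_
          have h' : s * (x : G) * s = x := congrArg Subtype.val hx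
          conv_lhs => rw [← h', mul_assoc, mul_self hs, mul_one])
        have hinvo : Function.Involutive φ := fun x => Subtype.ext (by
          show s * (s * (x : G) * s) * s = x
          rw [show s * (s * (x : G) * s) * s = (s * s) * x * (s * s) by group, mul_self hs, one_mul, mul_one])
        exact fun x hx => congrArg Subtype.val (congrFun (hfp.coe_eq_inv_of_involutive hinvo) ⟨x, hx⟩)
      have huniq : ∀ s t : G, orderOf s = 2 → orderOf t = 2 → s * t = t * s → s = t := by
        intro s t hs ht hst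
        have hp : IsPGroup 2 (Subgroup.closure ({s, t} : Set G)) := by
          haveI : IsMulCommutative (Subgroup.closure ({s, t} : Set G)) :=
            Subgroup.isMulCommutative_closure (by
              rintro a (rfl | rfl) b (rfl | rfl) <;> first | rfl | exact hst | exact hst.symm)
          intro x
          refine ⟨1, Subtype.ext ?_⟩
          rw [pow_one, Subgroup.coe_pow, Subgroup.coe_one]
          refine Subgroup.closure_induction (p := fun y _ => y ^ 2 = 1) ?_ (one_pow 2) ?_ ?_ x.2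
          · rintro y (rfl | rfl)
            · rw [pow_two, mul_self hs]
            · rw [pow_two, mul_self ht]
          · intro a b ha hb ea eb
            have hc : Commute a b := congrArg Subtype.val
              (mul_comm' (⟨a, ha⟩ : Subgroup.closure ({s, t} : Set G)) ⟨b, hb⟩)
            rw [hc.mul_pow, ea, eb, one_mul]
          · intro a _ ea
            rw [inv_pow, ea, inv_one]
        obtain ⟨Q, hQ⟩ := hp.exists_le_sylow
        obtain ⟨g, rfl⟩ := MulAction.exists_smul_eq G P Q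
        have key : ∀ a : G, a ∈ ({s, t} : Set G) → g⁻¹ * a * g ∈ (P : Subgroup G) := fun a ha => by
          have h := hQ (Subgroup.subset_closure ha)
          rwa [Sylow.coe_subgroup_smul, Subgroup.mem_pointwise_smul_iff_inv_smul_mem, ← map_inv,
            MulAut.smul_def, MulAut.conj_apply, inv_inv] at h
        have hs' : orderOf (g⁻¹ * s * g) = 2 := by
          rw [show g⁻¹ * s * g = g⁻¹ * s * g⁻¹⁻¹ by group, order_conj, hs]
        have ht' : orderOf (g⁻¹ * t * g) = 2 := by
          rw [show g⁻¹ * t * g = g⁻¹ * t * g⁻¹⁻¹ by group, order_conj, ht]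
        have hsP := key s (Set.mem_insert _ _)
        have htP := key t (Set.mem_insert_of_mem _ rfl)
        by_contra hne
        obtain ⟨⟨x, hx⟩, hx1⟩ := Subgroup.ne_bot_iff_exists_ne_one.1 hF1
        have hx1' : x ≠ 1 := fun e => hx1 (Subtype.ext e)
        have hu : g⁻¹ * s * g * (g⁻¹ * t * g) ∈ F M := by
          refine cent_le hF hM hx hx1' (mem_Ct.2 ?_)
          have e1 := hinv _ htP ht' x hx
          have e2 := hinv _ hsP hs' _ (inv_mem hx)
          rw [inv_inv] at e2
          have hcomm : g⁻¹ * s * g * (g⁻¹ * t * g) = g⁻¹ * t * g * (g⁻¹ * s * g) := by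
            calc g⁻¹ * s * g * (g⁻¹ * t * g) = g⁻¹ * (s * t) * g := by group
              _ = g⁻¹ * (t * s) * g := by rw [hst]
              _ = _ := by group
          refine mul_inv_eq_iff_eq_mul.1 ?_
          rw [mul_inv_rev, inv_self ht', inv_self hs']
          calc g⁻¹ * s * g * (g⁻¹ * t * g) * x * (g⁻¹ * t * g * (g⁻¹ * s * g))
              = g⁻¹ * s * g * (g⁻¹ * t * g * x * (g⁻¹ * t * g)) * (g⁻¹ * s * g) := by group
            _ = x := by rw [e1, e2]
        have h1 := hno M hM _ (mul_mem hsP htP) hu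
        refine hne (inv_self ht ▸ mul_eq_one_iff_eq_inv.1 ((conj_eq_one_iff (a := g⁻¹) (b := s * t)).1 ?_))
        rw [← h1]; group
      obtain ⟨z, hz⟩ := exists_prime_orderOf_dvd_card' (G := G) 2 hev.two_dvd
      have hiso : Cfsg.IsIsolated z := fun g hc => (huniq z _ hz ((order_conj g z).trans hz) hc.eq).symm
      have hZ := BrauerSuzuki.zStar G z hz hiso
      haveI : (Cfsg.pPrimeCore 2 G).Normal := FittingCores.pPrimeCore_normal 2
      have hO : Cfsg.pPrimeCore 2 G = ⊥ := radical hF hns inferInstance (OddChar.oddSolvable _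
        (Nat.not_even_iff_odd.1 fun h => Nat.prime_two.coprime_iff_not_dvd.1
          (FittingCores.pPrimeCore_coprime (G := G) 2).symm h.two_dvd))
      have hzc : z ∈ Subgroup.center G := Subgroup.mem_center_iff.2 fun g => by
        have := hZ g
        rw [hO, Subgroup.mem_bot, mul_inv_eq_one, mul_inv_eq_iff_eq_mul] at this
        exact this
      have := radical hF hns (R := Subgroup.center G) inferInstance (Group.isSolvable_of_comm fun a b =>
        Subtype.ext (Subgroup.mem_center_iff.1 b.2 a))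
      rw [this, Subgroup.mem_bot] at hzc
      exact ne_one hz hzc
    push Not at hq
    set N := Subgroup.normalizer ((P : Subgroup G) : Set G)
    haveI : ((P : Subgroup G).subgroupOf N).Normal := Subgroup.normal_in_normalizer
    haveI : Group.IsSolvable ((P : Subgroup G).subgroupOf N) :=
      Group.isSolvable_of_isSolvable_injective (f := (Subgroup.subgroupOfEquivOfLe
        (Subgroup.le_normalizer : (P : Subgroup G) ≤ N)).toMonoidHom) (Subgroup.subgroupOfEquivOfLe _).injective
    have hN : Group.IsSolvable N := by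
      refine (Group.isSolvable_iff_subgroup_quotient ((P : Subgroup G).subgroupOf N)).2 ⟨inferInstance, ?_⟩
      refine OddChar.oddSolvable _ ?_
      rw [← Subgroup.index_eq_card, Nat.odd_iff, ← Nat.two_dvd_ne_zero]
      exact fun h => P.not_dvd_index (h.trans (Subgroup.relIndex_dvd_index_of_le Subgroup.le_normalizer))
    obtain ⟨M, hM, hNM⟩ := exists_ms hN
    haveI := (hF M hM).2.2.2.2.resolve_left (fun h => h (hq M hM (Subgroup.le_normalizer.trans hNM)))
    have hPC : N ≤ Subgroup.centralizer ((P : Subgroup G) : Set G) := fun g hg =>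
      Subgroup.mem_centralizer_iff.2 fun p hp =>
        congrArg Subtype.val (mul_comm' (⟨p, hNM (Subgroup.le_normalizer hp)⟩ : M) ⟨g, hNM hg⟩)
    set T := (MonoidHom.transferSylow P hPC).ker
    have hc := MonoidHom.ker_transferSylow_isComplement' P hPC
    have hTodd : Odd (Nat.card T) := by
      rw [← hc.index_eq_card, Nat.odd_iff, ← Nat.two_dvd_ne_zero]
      exact P.not_dvd_index
    have hT := radical hF hns (R := T) inferInstance (OddChar.oddSolvable T hTodd)
    have hPtop : (P : Subgroup G) = ⊤ := by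
      have := hc.sup_eq_top
      rwa [show (MonoidHom.transferSylow P hPC).ker = ⊥ from hT, bot_sup_eq] at this
    exact hns (Group.isSolvable_of_surjective (f := (P : Subgroup G).subtype)
      fun g => ⟨⟨g, hPtop ▸ trivial⟩, rfl⟩)
  obtain ⟨w, hwP, hwF, hw1⟩ := hPM
  refine ⟨F M, good_of (f_nilpotent hF hns hM) (fun e => hw1 (Subgroup.mem_bot.1 (e ▸ hwF)))
    (fun k hk hk1 => cent_le hF hM hk hk1), ?_, ?_⟩
  · have h2 : 2 ∣ Nat.card (P : Subgroup G) := P.dvd_card_of_dvd_card hev.two_dvd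
    exact h2.trans (Subgroup.card_dvd_of_le (sylow_le hF hM P hwP hwF hw1))
  · intro htop
    have hn : (F M).Normal := Subgroup.normalizer_eq_top_iff.1 htop
    haveI := f_nilpotent hF hns hM
    exact hw1 (Subgroup.mem_bot.1 (radical hF hns hn inferInstance ▸ hwF))

/-- Such a group is simple. -/
theorem simple {K : Subgroup G} (h : TIHyp K) : IsSimpleGroup G := by
  classical
  haveI : Fact (Nat.Prime 2) := ⟨Nat.prime_two⟩
  set L : Subgroup G := Subgroup.closure {t : G | orderOf t = 2} with hL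
  haveI hLn : L.Normal := ⟨fun x hx g => by
    rw [hL] at hx ⊢
    refine Subgroup.closure_induction (p := fun y _ => g * y * g⁻¹ ∈ Subgroup.closure {t : G | orderOf t = 2})
      (fun y hy => Subgroup.subset_closure ((order_conj g y).trans hy))
      (by rw [mul_one, mul_inv_cancel]; exact one_mem _)
      (fun a b _ _ ha hb => by
        rw [show g * (a * b) * g⁻¹ = g * a * g⁻¹ * (g * b * g⁻¹) by group]; exact mul_mem ha hb)
      (fun a _ ha => by rw [show g * a⁻¹ * g⁻¹ = (g * a * g⁻¹)⁻¹ by group]; exact inv_mem ha) hx⟩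
  have hmemL : ∀ t : G, orderOf t = 2 → t ∈ L := fun t ht => Subgroup.subset_closure ht
  obtain ⟨z, hzK, hz, -⟩ := h.exists_central
  have hLns : ¬ Group.IsSolvable L := fun hs => ne_one hz (Subgroup.mem_bot.1
    (radical hF hns hLn hs ▸ hmemL z hz))
  set KL := K.subgroupOf L with hKL
  have good' : CN.Good KL := by
    refine good_of ?_ ?_ ?_
    · haveI := h.good.nil
      haveI : Group.IsNilpotent (L ⊓ K : Subgroup G) := CN.nilpotent_of_le inf_le_right h.good.nil
      exact Group.nilpotent_of_mulEquiv ((Subgroup.subgroupOfEquivOfLe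
        (inf_le_left : L ⊓ K ≤ L)).symm.trans (MulEquiv.subgroupCongr (show (L ⊓ K).subgroupOf L = KL by rw [Subgroup.inf_subgroupOf_left])))
    · intro e
      have hzKL : (⟨z, hmemL z hz⟩ : L) ∈ KL := hzK
      rw [e, Subgroup.mem_bot] at hzKL
      exact ne_one hz (congrArg Subtype.val hzKL)
    · intro k hk hk1 a ha
      exact h.good.cent (k : G) hk (fun e => hk1 (Subtype.ext e))
        (mem_Ct.2 (congrArg Subtype.val (Subgroup.mem_centralizer_singleton_iff.1 ha)))
  have hev' : 2 ∣ Nat.card KL := by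
    have : orderOf (⟨⟨z, hmemL z hz⟩, hzK⟩ : KL) = 2 := by
      rw [← Subgroup.orderOf_coe, ← Subgroup.orderOf_coe]; exact hz
    exact this ▸ orderOf_dvd_natCard _
  have hNiff : ∀ l : L, l ∈ Subgroup.normalizer (KL : Set L) ↔ (l : G) ∈ h.N := by
    intro l
    constructor
    · intro hl
      exact h.mem_N_of_meet hzK (ne_one hz) ((Subgroup.mem_normalizer_iff.1 hl ⟨z, hmemL z hz⟩).1 hzK)
    · intro hl
      refine Subgroup.mem_normalizer_iff.2 fun x => ?_
      exact Subgroup.mem_normalizer_iff.1 hl (x : G)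
  have hL' : TIHyp KL := ⟨good', hev', fun htop => hLns (by
    have hall : ∀ t : G, orderOf t = 2 → t ∈ K := fun t ht => h.invol_mem ht
      ((hNiff ⟨t, hmemL t ht⟩).1 (htop ▸ trivial))
    have hle : L ≤ K := (Subgroup.closure_le K).2 hall
    haveI : Group.IsNilpotent L := CN.nilpotent_of_le hle h.good.nil
    infer_instance)⟩
  -- the subgroup generated by the involutions is simple
  have hLs : IsSimpleGroup L := by
    haveI : Nontrivial L := ⟨⟨⟨z, hmemL z hz⟩, 1, fun e => ne_one hz (congrArg Subtype.val e)⟩⟩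
    refine ⟨fun U hU => or_iff_not_imp_left.2 fun hU1 => ?_⟩
    have hUev : Even (Nat.card U) := Nat.not_odd_iff_even.1 fun ho => hU1 (by
      haveI : (Cfsg.pPrimeCore 2 L).Characteristic := PBasic.pPrimeCore_characteristic 2 _
      have hO := radical hF hns (R := (Cfsg.pPrimeCore 2 L).map L.subtype)
        (FittingCores.normal_map_of_characteristic hLn inferInstance) (by
          haveI : Group.IsSolvable (Cfsg.pPrimeCore 2 L) := OddChar.oddSolvable _
            (Nat.not_even_iff_odd.1 fun h => Nat.prime_two.coprime_iff_not_dvd.1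
              (FittingCores.pPrimeCore_coprime (G := L) 2).symm h.two_dvd)
          exact Group.isSolvable_of_surjective
            (f := (Subgroup.equivMapOfInjective (Cfsg.pPrimeCore 2 L) _ L.subtype_injective).toMonoidHom)
            (Subgroup.equivMapOfInjective (Cfsg.pPrimeCore 2 L) _ L.subtype_injective).surjective)
      rw [Subgroup.map_eq_bot_iff_of_injective _ L.subtype_injective] at hO
      exact le_bot_iff.1 ((PBasic.le_pPrimeCore hU (Nat.coprime_two_right.2 ho)).trans hO.le))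
    obtain ⟨w, hwU, hw⟩ := exists_invol hUev
    rw [eq_top_iff]
    intro l _
    have hle : L ≤ U.map L.subtype := (Subgroup.closure_le _).2 fun t ht => by
      obtain ⟨g, hg⟩ := isConj_iff.1 (hL'.isConj hw
        (show orderOf (⟨t, hmemL t ht⟩ : L) = 2 by rw [← Subgroup.orderOf_coe]; exact ht))
      exact ⟨_, hU.conj_mem w hwU g, congrArg Subtype.val hg⟩
    obtain ⟨u, hu, e⟩ := hle l.2
    rwa [← L.subtype_injective e]
  haveI := hLs
  -- counting cosets
  have hm : hL'.m = h.m := by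
    refine Nat.card_congr ⟨fun t => ⟨((t.1 : L) : G), by rw [Subgroup.orderOf_coe]; exact t.2.1, t.2.2⟩,
      fun t => ⟨⟨t.1, hmemL t.1 t.2.1⟩, by rw [← Subgroup.orderOf_coe]; exact t.2.1, t.2.2⟩,
      fun t => rfl, fun t => rfl⟩
  have hm2 : 2 ≤ h.m := hm ▸ hL'.two_le_m
  have count : ∀ {H : Type u} [Group H] [Finite H] {J : Subgroup H} (hJ : TIHyp J), 2 ≤ hJ.m →
      Nat.card (H ⧸ hJ.N) = Nat.card J + 1 := by
    intro H _ _ J hJ hJ2
    haveI := Fintype.ofFinite (H ⧸ hJ.N)
    obtain ⟨v, hv, hvN⟩ := hJ.exists_invol_not_mem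
    set x₀ : H ⧸ hJ.N := ((1 : H) : H ⧸ hJ.N)
    have hy : v • x₀ ≠ x₀ := fun e => hvN (hJ.fix_base.1 e)
    have e : Nat.card J = Nat.card {c : H ⧸ hJ.N // c ≠ x₀} := by
      refine Nat.card_congr (Equiv.ofBijective
        (fun a : J => (⟨(a : H) • (v • x₀), hJ.smul_ne_base (hJ.K_le_N a.2) hy⟩ : {c : H ⧸ hJ.N // c ≠ x₀}))
        ⟨fun a b hab => (hJ.regular_of_two_le hJ2 hy (hJ.smul_ne_base (hJ.K_le_N b.2) hy)).unique
          (congrArg Subtype.val hab) rfl, fun c => ?_⟩)
      obtain ⟨a, ha, -⟩ := hJ.regular_of_two_le hJ2 hy c.2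
      exact ⟨a, Subtype.ext ha⟩
    rw [e, Nat.card_eq_fintype_card (α := {c : H ⧸ hJ.N // c ≠ x₀}), Fintype.card_subtype_compl,
      Fintype.card_subtype_eq, Nat.card_eq_fintype_card]
    have : 0 < Fintype.card (H ⧸ hJ.N) := Fintype.card_pos_iff.mpr ⟨x₀⟩
    omega
  obtain ⟨T, hT⟩ := good'.sylow 2 Nat.prime_two hev'
  have hsup := Sylow.normalizer_sup_eq_top T
  have hTN : Subgroup.normalizer (((T : Subgroup L).map L.subtype : Subgroup G) : Set G) ≤ h.N := by
    intro g hg
    obtain ⟨⟨t, ht⟩, ht1⟩ := Subgroup.ne_bot_iff_exists_ne_one.1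
      (T.ne_bot_of_dvd_card (hev'.trans KL.card_subgroup_dvd_card))
    have hmem := (Subgroup.mem_normalizer_iff.1 hg (t : G)).1 ⟨t, ht, rfl⟩
    obtain ⟨t', ht', e⟩ := hmem
    exact h.mem_N_of_meet (hT ht) (fun e' => ht1 (Subtype.ext (Subtype.ext e'))) (e ▸ hT ht')
  have hmul : ∀ g : G, ∃ l ∈ L, ∃ n ∈ h.N, g = l * n := by
    intro g
    have : g ∈ L ⊔ h.N := by
      refine (sup_comm h.N L ▸ (sup_le_sup_right hTN L) : _ ≤ L ⊔ h.N) ?_
      rw [hsup]; trivial
    obtain ⟨l, hl, n, hn, e⟩ := Subgroup.mem_sup_of_normal_left.1 this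
    exact ⟨l, hl, n, hn, e.symm⟩
  have hindex : Nat.card (L ⧸ hL'.N) = Nat.card (G ⧸ h.N) := by
    refine Nat.card_congr (Equiv.ofBijective (Quotient.lift (fun l : L => ((l : G) : G ⧸ h.N)) ?_) ⟨?_, ?_⟩)
    · intro a b hab
      exact QuotientGroup.eq.2 ((hNiff (a⁻¹ * b)).1 (QuotientGroup.leftRel_apply.1 hab))
    · rintro ⟨a⟩ ⟨b⟩ hab
      exact QuotientGroup.eq.2 ((hNiff (a⁻¹ * b)).2 (QuotientGroup.eq.1 hab))
    · intro q
      obtain ⟨g, rfl⟩ := QuotientGroup.mk_surjective q
      obtain ⟨l, hl, n, hn, rfl⟩ := hmul g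
      refine ⟨QuotientGroup.mk ⟨l, hl⟩, QuotientGroup.eq.2 ?_⟩
      show l⁻¹ * (l * n) ∈ h.N
      rwa [inv_mul_cancel_left]
  have hcardK : Nat.card KL = Nat.card K := by
    have h1 := count h hm2
    have h2 := count hL' (hm ▸ hm2)
    omega
  have hKle : K ≤ L := by
    have e : KL.map L.subtype = K := by
      refine Subgroup.eq_of_le_of_card_ge (fun x ⟨y, hy, e⟩ => e ▸ hy) ?_
      rw [Subgroup.card_map_of_injective L.subtype_injective, hcardK]
    exact e ▸ Subgroup.map_subtype_le KL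
  have hNle : h.N ≤ L := by
    have hc : Nat.card hL'.N = Nat.card h.N := by rw [h.card_N, hL'.card_N, hm, hcardK]
    have e : hL'.N.map L.subtype = h.N := by
      refine Subgroup.eq_of_le_of_card_ge (fun x ⟨y, hy, e⟩ => e ▸ (hNiff y).1 hy) ?_
      rw [Subgroup.card_map_of_injective L.subtype_injective, hc]
    exact e ▸ Subgroup.map_subtype_le hL'.N
  have htop : L = ⊤ := (Subgroup.eq_top_iff' L).2 fun g => by
    obtain ⟨l, hl, n, hn, rfl⟩ := hmul g
    exact mul_mem hl (hNle hn)
  have e : L ≃* G := (MulEquiv.subgroupCongr htop).trans Subgroup.topEquiv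
  exact (MulEquiv.isSimpleGroup_congr e).1 hLs

/-- The classification. -/
theorem main :
    (∃ (K : Type) (_ : Field K) (_ : Fintype K), (∃ n : ℕ, 2 ≤ n ∧ Fintype.card K = 2 ^ n) ∧
        Nonempty (G ≃* Matrix.SpecialLinearGroup (Fin 2) K)) ∨
      Cfsg.Lie.IsoSuzuki G := by
  classical
  obtain ⟨K, h⟩ := exists_tiHyp hF hns
  haveI := simple hF hns h
  rcases SzRecog.tiHyp_main h with ⟨E, i1, i2, n, hn, ⟨e⟩⟩ | hs
  swap
  · exact Or.inr hs
  left
  haveI : CharP E 2 := by
    haveI : Fact (Nat.Prime 2) := ⟨Nat.prime_two⟩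
    exact charP_of_card_eq_prime_pow hn
  have hc : Subgroup.center (Matrix.SpecialLinearGroup (Fin 2) E) = ⊥ := SL2Orders.center_eq_bot
  let e' : Matrix.ProjectiveSpecialLinearGroup (Fin 2) E ≃* Matrix.SpecialLinearGroup (Fin 2) E :=
    (QuotientGroup.quotientMulEquivOfEq hc).trans QuotientGroup.quotientBot
  refine ⟨E, i1, i2, ⟨n, ?_, hn⟩, ⟨e.trans e'⟩⟩
  by_contra hlt
  have hE : Fintype.card E = 2 := by
    have := Fintype.one_lt_card (α := E)
    interval_cases n <;> omega
  have hG : Nat.card G = 6 := by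
    rw [Nat.card_congr (e.trans e').toEquiv, SL2Inv.card_sl2, Nat.card_eq_fintype_card, hE]
  have hm := h.two_le_m
  obtain ⟨j, hj⟩ := h.odd_m
  have hK2 : 2 ≤ Nat.card K := Nat.le_of_dvd Nat.card_pos h.even
  have hidx : 2 ≤ h.N.index := Subgroup.one_lt_index_of_ne_top h.ne_top
  have hGN := h.N.card_mul_index
  rw [h.card_N, hG] at hGN
  have h1 : 2 * 3 * 2 ≤ Nat.card K * h.m * h.N.index := Nat.mul_le_mul (Nat.mul_le_mul hK2 (by omega)) hidx
  omega

end Cfsg.Agent.SolvTI
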